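import Groth.Agent.Lib.Helper2.DerLC.Twist
import Groth.Agent.Lib.Helper5.ExtCechLC
import Groth.Agent.Lib.Helper2.RGColim.Cls

/-!
# Derivation operators on complexes, the extended Čech complex and local cohomology
-/

set_option autoImplicit false

universe u

open CategoryTheory CategoryTheory.Limits CochainComplex DerCA
open Groth.Agent.Lib.Helper5.ExtCechFunctor

noncomputable section

namespace Groth.Agent.Lib.Helper2.DerLC

variable {A : Type u} [CommRing A] (θ : Derivation ℤ A A)

/-- A `θ`-derivation operator on a cochain complex of `A`-modules. -/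
structure DerCx (K : DRing.Cx A) where
  op : ∀ n, DerOp θ (K.X n)
  comm : ∀ (n m : ℤ) (_ : n + 1 = m) (x : K.X n),
    (K.d n m).hom ((op n).D x) = (op m).D ((K.d n m).hom x)

variable {θ}

/-- compatibility of a chain map with derivation operators -/
def DerCx.Compat {K L : DRing.Cx A} (dK : DerCx θ K) (dL : DerCx θ L) (φ : K ⟶ L) : Prop :=
  ∀ (n : ℤ) (x : K.X n), (φ.f n).hom ((dK.op n).D x) = (dL.op n).D ((φ.f n).hom x)

/-! ### Transport along a linear equivalence, zero modules -/

/-- transport of a derivation operator along a linear equivalence -/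
def DerOp.transport {M N : Type u} [AddCommGroup M] [Module A M] [AddCommGroup N] [Module A N]
    (d : DerOp θ M) (e : M ≃ₗ[A] N) : DerOp θ N where
  D := (e.toLinearMap.toAddMonoidHom.comp d.D).comp e.symm.toLinearMap.toAddMonoidHom
  leib a y := by
    change e (d.D (e.symm (a • y))) = θ a • y + a • e (d.D (e.symm y))
    rw [map_smul, d.leib, map_add, map_smul, map_smul, e.apply_symm_apply]

/-- the zero operator on a subsingleton module -/
def DerOp.ofSubsingleton {M : Type u} [AddCommGroup M] [Module A M] [Subsingleton M] : DerOp θ M where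
  D := 0
  leib _ _ := Subsingleton.elim _ _

/-! ### The operator on homology -/

section Homology

open Groth.Agent.Lib.Helper2.RGColim

variable {K : DRing.Cx A} (dK : DerCx θ K) (q : ℤ)

/-- the operator on cycles -/
def DerCx.Dker : LinearMap.ker (K.d q (q + 1)).hom →+ LinearMap.ker (K.d q (q + 1)).hom where
  toFun z := ⟨(dK.op q).D z.1, by
    rw [LinearMap.mem_ker, dK.comm q (q + 1) rfl, LinearMap.mem_ker.1 z.2, map_zero]⟩
  map_zero' := by
    apply Subtype.ext
    exact (dK.op q).D.map_zero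
  map_add' z w := by
    apply Subtype.ext
    exact (dK.op q).D.map_add z.1 w.1

lemma DerCx.Dker_smul (a : A) (z : LinearMap.ker (K.d q (q + 1)).hom) :
    dK.Dker q (a • z) = θ a • z + a • dK.Dker q z := by
  apply Subtype.ext
  exact (dK.op q).leib a z.1

lemma DerCx.ker_le :
    (b K q).toAddMonoidHom.ker ≤ ((b K q).toAddMonoidHom.comp (dK.Dker q)).ker := by
  intro z hz
  rw [AddMonoidHom.mem_ker] at hz ⊢
  have hz' : b K q z = 0 := hz
  obtain ⟨w, hw⟩ := (b_eq_zero_iff K q z).1 hz'
  change b K q (dK.Dker q z) = 0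
  rw [b_eq_zero_iff]
  refine ⟨(dK.op (q - 1)).D w, ?_⟩
  rw [dK.comm (q - 1) q (by omega), hw]
  rfl

/-- the operator on homology -/
def DerCx.DH : K.homology q →+ K.homology q :=
  (b K q).toAddMonoidHom.liftOfSurjective (b_surjective K q)
    ⟨(b K q).toAddMonoidHom.comp (dK.Dker q), dK.ker_le q⟩

lemma DerCx.DH_b (z : LinearMap.ker (K.d q (q + 1)).hom) :
    dK.DH q (b K q z) = b K q (dK.Dker q z) :=
  AddMonoidHom.liftOfRightInverse_comp_apply _ _ _ _ z

lemma DerCx.DH_leib (a : A) (ξ : K.homology q) :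
    dK.DH q (a • ξ) = θ a • ξ + a • dK.DH q ξ := by
  obtain ⟨z, rfl⟩ := b_surjective K q ξ
  rw [← map_smul, dK.DH_b, dK.DH_b, dK.Dker_smul, map_add, map_smul, map_smul]

end Homology

/-! ### Localisation -/

section Loc

variable {K : DRing.Cx A} (dK : DerCx θ K) (S : Submonoid A)

/-- the localised operator on the localised complex -/
def DerCx.loc : DerCx θ ((locCx S).obj K) where
  op n := show DerOp θ (LocalizedModule S (K.X n)) from (dK.op n).loc S
  comm n m h x := by
    exact DerOp.loc_D_map S (dK.op n) (dK.op m) (K.d n m).hom (dK.comm n m h) x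

lemma DerCx.compat_locCxUnit : dK.Compat (dK.loc S) (locCxUnit S K) := by
  intro n x
  exact (DerOp.loc_D_mk S (dK.op n) x).symm

end Loc

/-! ### Mapping cones -/

section Cone

variable {K L : DRing.Cx A} (dK : DerCx θ K) (dL : DerCx θ L) (φ : K ⟶ L) (hφ : dK.Compat dL φ)

/-- the operator on the terms of the mapping cone -/
def coneOp (m : ℤ) : DerOp θ ((mappingCone φ).X m) where
  D :=
    { toFun := fun x => (coneDecomp φ m).i₁.hom ((dK.op (m + 1)).D ((coneDecomp φ m).p₁.hom x)) +
        (coneDecomp φ m).i₂.hom ((dL.op m).D ((coneDecomp φ m).p₂.hom x))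
      map_zero' := by simp
      map_add' := fun x y => by
        simp only [map_add]
        abel }
  leib a x := by
    change (coneDecomp φ m).i₁.hom ((dK.op (m + 1)).D ((coneDecomp φ m).p₁.hom (a • x))) +
        (coneDecomp φ m).i₂.hom ((dL.op m).D ((coneDecomp φ m).p₂.hom (a • x))) =
      θ a • x + a • ((coneDecomp φ m).i₁.hom ((dK.op (m + 1)).D ((coneDecomp φ m).p₁.hom x)) +
        (coneDecomp φ m).i₂.hom ((dL.op m).D ((coneDecomp φ m).p₂.hom x)))
    rw [LinearMap.map_smul, LinearMap.map_smul, (dK.op (m + 1)).leib, (dL.op m).leib, LinearMap.map_add,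
      LinearMap.map_add, LinearMap.map_smul, LinearMap.map_smul, LinearMap.map_smul, LinearMap.map_smul, smul_add]
    have h1 : θ a • x = θ a • (coneDecomp φ m).i₁.hom ((coneDecomp φ m).p₁.hom x) +
        θ a • (coneDecomp φ m).i₂.hom ((coneDecomp φ m).p₂.hom x) := by
      rw [← smul_add, (coneDecomp φ m).total_apply x]
    rw [h1]
    abel

lemma coneOp_D (m : ℤ) (x : (mappingCone φ).X m) :
    (coneOp dK dL φ m).D x =
      (coneDecomp φ m).i₁.hom ((dK.op (m + 1)).D ((coneDecomp φ m).p₁.hom x)) +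
        (coneDecomp φ m).i₂.hom ((dL.op m).D ((coneDecomp φ m).p₂.hom x)) := rfl

lemma p₁_coneOp (m : ℤ) (x : (mappingCone φ).X m) :
    (coneDecomp φ m).p₁.hom ((coneOp dK dL φ m).D x) =
      (dK.op (m + 1)).D ((coneDecomp φ m).p₁.hom x) := by
  rw [coneOp_D, map_add, (coneDecomp φ m).p₁_i₁, (coneDecomp φ m).p₁_i₂, add_zero]

lemma p₂_coneOp (m : ℤ) (x : (mappingCone φ).X m) :
    (coneDecomp φ m).p₂.hom ((coneOp dK dL φ m).D x) =
      (dL.op m).D ((coneDecomp φ m).p₂.hom x) := by
  rw [coneOp_D, map_add, (coneDecomp φ m).p₂_i₁, (coneDecomp φ m).p₂_i₂, zero_add]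

lemma p₁_d (m : ℤ) (x : (mappingCone φ).X m) :
    (coneDecomp φ (m + 1)).p₁.hom (((mappingCone φ).d m (m + 1)).hom x) =
      - (K.d (m + 1) (m + 1 + 1)).hom ((coneDecomp φ m).p₁.hom x) := by
  have h := app_eq (mappingCone.d_fst_v φ m (m + 1) (m + 1 + 1) rfl rfl) x
  simp only [ModuleCat.hom_comp, ModuleCat.hom_neg, LinearMap.comp_apply, LinearMap.neg_apply] at h
  exact h

lemma p₂_d (m : ℤ) (x : (mappingCone φ).X m) :
    (coneDecomp φ (m + 1)).p₂.hom (((mappingCone φ).d m (m + 1)).hom x) =
      (φ.f (m + 1)).hom ((coneDecomp φ m).p₁.hom x) +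
        (L.d m (m + 1)).hom ((coneDecomp φ m).p₂.hom x) := by
  have h := app_eq (mappingCone.d_snd_v φ m (m + 1) rfl) x
  simp only [ModuleCat.hom_comp, ModuleCat.hom_add, LinearMap.comp_apply, LinearMap.add_apply] at h
  exact h

include hφ in
lemma coneOp_comm (m : ℤ) (x : (mappingCone φ).X m) :
    ((mappingCone φ).d m (m + 1)).hom ((coneOp dK dL φ m).D x) =
      (coneOp dK dL φ (m + 1)).D (((mappingCone φ).d m (m + 1)).hom x) := by
  rw [← sub_eq_zero]
  apply (coneDecomp φ (m + 1)).eq_zero
  · rw [map_sub, p₁_d, p₁_coneOp, p₁_coneOp, p₁_d, dK.comm (m + 1) (m + 1 + 1) rfl, map_neg, sub_self]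
  · rw [map_sub, p₂_d, p₁_coneOp, p₂_coneOp, p₂_coneOp, p₂_d, map_add, hφ, dL.comm m (m + 1) rfl,
      sub_self]

/-- the operator on the mapping cone -/
def DerCx.cone : DerCx θ (mappingCone φ) where
  op := coneOp dK dL φ
  comm n m h x := by
    subst h
    exact coneOp_comm dK dL φ hφ n x

end Cone

/-! ### Shifts -/

section Shift

variable {K : DRing.Cx A} (dK : DerCx θ K) (k : ℤ)

/-- the operator on a shifted complex -/
def DerCx.shift : DerCx θ (K⟦k⟧) where
  op n := show DerOp θ (K.X (n + k)) from dK.op (n + k)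
  comm n m h x := by
    change (k.negOnePow • K.d (n + k) (m + k)).hom ((dK.op (n + k)).D x) =
      (dK.op (m + k)).D ((k.negOnePow • K.d (n + k) (m + k)).hom x)
    rw [Units.smul_def, ModuleCat.hom_zsmul]
    change ((k.negOnePow : ℤ)) • ((K.d (n + k) (m + k)).hom ((dK.op (n + k)).D x)) =
      (dK.op (m + k)).D (((k.negOnePow : ℤ)) • (K.d (n + k) (m + k)).hom x)
    rw [map_zsmul, dK.comm (n + k) (m + k) (by omega)]

end Shift

/-! ### The extended Čech complex -/

section Cech

/-- the operator on `M[0]` -/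
def DerCx.single (M : ModuleCat.{u} A) (dM : DerOp θ M) : DerCx θ ((HomologicalComplex.single (ModuleCat.{u} A) (ComplexShape.up ℤ) 0).obj M) where
  op n :=
    if h : n = 0 then
      dM.transport (HomologicalComplex.singleObjXIsoOfEq (ComplexShape.up ℤ) 0 M n h).symm.toLinearEquiv
    else
      haveI : Subsingleton (((HomologicalComplex.single (ModuleCat.{u} A) (ComplexShape.up ℤ) 0).obj M).X n) :=
        ModuleCat.subsingleton_of_isZero (HomologicalComplex.isZero_single_obj_X (ComplexShape.up ℤ) 0 M n h)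
      DerOp.ofSubsingleton
  comm n m h x := by
    rw [HomologicalComplex.single_obj_d]
    simp

/-- the operator on the extended Čech complex -/
def extCechDer (M : ModuleCat.{u} A) (dM : DerOp θ M) :
    ∀ fs : List A, DerCx θ (extCech M fs)
  | [] => DerCx.single M dM
  | f :: fs =>
    ((extCechDer M dM fs).cone ((extCechDer M dM fs).loc (Submonoid.powers f))
      (locCxUnit (Submonoid.powers f) (extCech M fs))
      ((extCechDer M dM fs).compat_locCxUnit (Submonoid.powers f))).shift (-1)

theorem exists_op_extCechH (M : ModuleCat.{u} A) (dM : DerOp θ M) (fs : List A) (q : ℤ) :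
    ∃ D : extCechH fs M q →+ extCechH fs M q,
      ∀ (a : A) (ξ : extCechH fs M q), D (a • ξ) = θ a • ξ + a • D ξ :=
  ⟨(extCechDer M dM fs).DH q, (extCechDer M dM fs).DH_leib q⟩

end Cech

/-- the derivation `θ` as a derivation operator on `A` -/
def DerOp.self : DerOp θ A where
  D := (θ : A →ₗ[ℤ] A).toAddMonoidHom
  leib a x := by
    change θ (a * x) = θ a * x + a * θ x
    rw [Derivation.leibniz, smul_eq_mul, smul_eq_mul]
    ring

/-- **Derivation operators on local cohomology.** -/
theorem exists_op_localCohomology [IsNoetherianRing A] (I : Ideal A) (i : ℕ) :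
    ∃ D : (localCohomology I i).obj (ModuleCat.of A A) →+ (localCohomology I i).obj (ModuleCat.of A A),
      ∀ (a : A) (ξ : (localCohomology I i).obj (ModuleCat.of A A)), D (a • ξ) = θ a • ξ + a • D ξ := by
  obtain ⟨s, hs⟩ := (isNoetherianRing_iff_ideal_fg A).1 inferInstance I
  have hI : Ideal.span {x | x ∈ s.toList} = I := by
    rw [← hs]
    congr 1
    ext x
    simp
  obtain ⟨e⟩ := Groth.Agent.Lib.Helper5.ExtCechH0.nonempty_extCechH_iso_localCohomology s.toList
    (ModuleCat.of A A) i
  rw [hI] at e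
  obtain ⟨D, hD⟩ := exists_op_extCechH (θ := θ) (ModuleCat.of A A) DerOp.self s.toList (i : ℤ)
  refine ⟨(e.toLinearEquiv.toLinearMap.toAddMonoidHom.comp D).comp
    e.symm.toLinearEquiv.toLinearMap.toAddMonoidHom, ?_⟩
  intro a ξ
  change e.toLinearEquiv (D (e.toLinearEquiv.symm (a • ξ))) =
    θ a • ξ + a • e.toLinearEquiv (D (e.toLinearEquiv.symm ξ))
  rw [map_smul, hD, map_add, map_smul, map_smul, LinearEquiv.apply_symm_apply]

end Groth.Agent.Lib.Helper2.DerLC
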