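import Mathlib

/-!
# Derivation operators on modules and their localisation

For a derivation `θ : A → A`, a `θ`-derivation operator on an `A`-module `M` is an additive map
`D : M → M` with `D (a • x) = θ a • x + a • D x`.  Such operators extend (uniquely) to localisations.
The construction linearises the problem with the twisted module `Tw θ N = N × N`,
`a ⋆ (x, y) = (a x, a y + θ a x)`: `D` is a derivation operator iff `x ↦ (x, D x)` is linear.
-/

set_option autoImplicit false

universe u v w

namespace Groth.Agent.Lib.Helper2.DerLC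

variable {A : Type u} [CommRing A] (θ : Derivation ℤ A A)

/-- A `θ`-derivation operator on the module `M`. -/
structure DerOp (M : Type v) [AddCommGroup M] [Module A M] where
  D : M →+ M
  leib : ∀ (a : A) (x : M), D (a • x) = θ a • x + a • D x

/-- The twisted module `N × N`. -/
@[nolint unusedArguments]
def Tw (_θ : Derivation ℤ A A) (N : Type v) := N × N

namespace Tw

variable {θ} {N : Type v} [AddCommGroup N] [Module A N]

instance : AddCommGroup (Tw θ N) := inferInstanceAs (AddCommGroup (N × N))

@[ext] lemma ext' {p q : Tw θ N} (h1 : p.1 = q.1) (h2 : p.2 = q.2) : p = q := Prod.ext h1 h2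

@[simp] lemma add_fst (p q : Tw θ N) : (p + q).1 = p.1 + q.1 := rfl
@[simp] lemma add_snd (p q : Tw θ N) : (p + q).2 = p.2 + q.2 := rfl
@[simp] lemma zero_fst : (0 : Tw θ N).1 = 0 := rfl
@[simp] lemma zero_snd : (0 : Tw θ N).2 = 0 := rfl

instance : SMul A (Tw θ N) := ⟨fun a p => (a • p.1, a • p.2 + θ a • p.1)⟩

@[simp] lemma smul_fst (a : A) (p : Tw θ N) : (a • p).1 = a • p.1 := rfl
@[simp] lemma smul_snd (a : A) (p : Tw θ N) : (a • p).2 = a • p.2 + θ a • p.1 := rfl

instance : Module A (Tw θ N) where
  one_smul p := by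
    ext
    · simp
    · simp
  mul_smul a b p := by
    ext
    · simp [mul_smul]
    · simp only [smul_snd, smul_fst, Derivation.leibniz, smul_eq_mul, add_smul, mul_smul, smul_add]
      rw [smul_comm b (θ a) p.1, add_assoc]
  smul_zero a := by
    ext
    · simp
    · simp
  smul_add a p q := by
    ext
    · simp
    · simp only [smul_snd, add_snd, add_fst, smul_add]
      abel
  add_smul a b p := by
    ext
    · simp [add_smul]
    · simp only [smul_snd, add_snd, map_add, add_smul]
      abel
  zero_smul p := by
    ext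
    · simp
    · simp

/-- first projection -/
def fstL : Tw θ N →ₗ[A] N where
  toFun p := p.1
  map_add' _ _ := rfl
  map_smul' _ _ := rfl

@[simp] lemma fstL_apply (p : Tw θ N) : fstL p = p.1 := rfl

/-- functoriality -/
def map {N' : Type w} [AddCommGroup N'] [Module A N'] (g : N →ₗ[A] N') : Tw θ N →ₗ[A] Tw θ N' where
  toFun p := (g p.1, g p.2)
  map_add' p q := by
    ext
    · exact g.map_add _ _
    · exact g.map_add _ _
  map_smul' a p := by
    ext
    · exact g.map_smul _ _
    · change g (a • p.2 + θ a • p.1) = a • g p.2 + θ a • g p.1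
      simp

@[simp] lemma map_fst {N' : Type w} [AddCommGroup N'] [Module A N'] (g : N →ₗ[A] N') (p : Tw θ N) :
    (map g p).1 = g p.1 := rfl
@[simp] lemma map_snd {N' : Type w} [AddCommGroup N'] [Module A N'] (g : N →ₗ[A] N') (p : Tw θ N) :
    (map g p).2 = g p.2 := rfl

/-- if `s` acts bijectively on `N`, it acts as a unit on the twisted module -/
lemma isUnit_algebraMap (s : A) (hs : Function.Bijective (fun x : N => s • x)) :
    IsUnit (algebraMap A (Module.End A (Tw θ N)) s) := by
  rw [Module.End.isUnit_iff]
  constructor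
  · intro p q h
    have h' : s • p = s • q := h
    have h1 : s • p.1 = s • q.1 := congrArg (fun z : Tw θ N => z.1) h'
    have h2 : s • p.2 + θ s • p.1 = s • q.2 + θ s • q.1 := congrArg (fun z : Tw θ N => z.2) h'
    have e1 : p.1 = q.1 := hs.1 h1
    rw [e1] at h2
    have e2 : p.2 = q.2 := hs.1 (add_right_cancel h2)
    exact ext' e1 e2
  · intro q
    obtain ⟨x, hx⟩ := hs.2 q.1
    obtain ⟨y, hy⟩ := hs.2 (q.2 - θ s • x)
    refine ⟨(x, y), ?_⟩
    rw [Module.algebraMap_end_apply]
    ext
    · exact hx
    · change s • y + θ s • x = q.2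
      have hy' : s • y = q.2 - θ s • x := hy
      rw [hy']
      abel

end Tw

namespace DerOp

variable {θ} {M : Type v} [AddCommGroup M] [Module A M]

/-- the linear map `x ↦ (x, D x)` -/
def Φ (d : DerOp θ M) : M →ₗ[A] Tw θ M where
  toFun x := (x, d.D x)
  map_add' x y := by
    ext
    · rfl
    · exact d.D.map_add x y
  map_smul' a x := by
    ext
    · rfl
    · change d.D (a • x) = a • d.D x + θ a • x
      rw [d.leib, add_comm]

@[simp] lemma Φ_fst (d : DerOp θ M) (x : M) : (d.Φ x).1 = x := rfl
@[simp] lemma Φ_snd (d : DerOp θ M) (x : M) : (d.Φ x).2 = d.D x := rfl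

/-- a derivation operator from a linear section of the twisted module -/
def ofLinear (Ψ : M →ₗ[A] Tw θ M) (h : ∀ x, (Ψ x).1 = x) : DerOp θ M where
  D :=
    { toFun := fun x => (Ψ x).2
      map_zero' := by rw [map_zero]; rfl
      map_add' := fun x y => by rw [map_add]; rfl }
  leib a x := by
    change (Ψ (a • x)).2 = θ a • x + a • (Ψ x).2
    rw [map_smul, Tw.smul_snd, h, add_comm]

@[simp] lemma ofLinear_D (Ψ : M →ₗ[A] Tw θ M) (h : ∀ x, (Ψ x).1 = x) (x : M) :
    (ofLinear Ψ h).D x = (Ψ x).2 := rfl

section Loc

variable (S : Submonoid A) (d : DerOp θ M)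

lemma isUnit_tw_loc (s : S) :
    IsUnit (algebraMap A (Module.End A (Tw θ (LocalizedModule S M))) (s : A)) := by
  apply Tw.isUnit_algebraMap
  have h := IsLocalizedModule.map_units (LocalizedModule.mkLinearMap S M) s
  rw [Module.End.isUnit_iff] at h
  exact h

/-- the linear map `M_S → Tw (M_S)` extending `x ↦ (x/1, D x/1)` -/
noncomputable def locΨ : LocalizedModule S M →ₗ[A] Tw θ (LocalizedModule S M) :=
  IsLocalizedModule.lift S (LocalizedModule.mkLinearMap S M)
    ((Tw.map (LocalizedModule.mkLinearMap S M)).comp d.Φ) (isUnit_tw_loc S)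

lemma locΨ_mk (x : M) :
    locΨ S d (LocalizedModule.mkLinearMap S M x) =
      (LocalizedModule.mkLinearMap S M x, LocalizedModule.mkLinearMap S M (d.D x)) :=
  IsLocalizedModule.lift_apply S (LocalizedModule.mkLinearMap S M) _ (isUnit_tw_loc S) x

lemma locΨ_fst (y : LocalizedModule S M) : (locΨ S d y).1 = y := by
  have h : (Tw.fstL (θ := θ)).comp (locΨ S d) = LinearMap.id := by
    apply IsLocalizedModule.ext S (LocalizedModule.mkLinearMap S M)
      (IsLocalizedModule.map_units (LocalizedModule.mkLinearMap S M))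
    ext x
    change (locΨ S d (LocalizedModule.mkLinearMap S M x)).1 = LocalizedModule.mkLinearMap S M x
    rw [locΨ_mk]
  exact LinearMap.congr_fun h y

/-- the localised derivation operator -/
noncomputable def loc : DerOp θ (LocalizedModule S M) := ofLinear (locΨ S d) (locΨ_fst S d)

lemma loc_D_mk (x : M) :
    (d.loc S).D (LocalizedModule.mkLinearMap S M x) = LocalizedModule.mkLinearMap S M (d.D x) := by
  change (locΨ S d (LocalizedModule.mkLinearMap S M x)).2 = _
  rw [locΨ_mk]

lemma locΨ_eq (y : LocalizedModule S M) : locΨ S d y = (y, (d.loc S).D y) := by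
  ext
  · exact locΨ_fst S d y
  · rfl

/-- naturality of the localised operator -/
lemma loc_D_map {M' : Type v} [AddCommGroup M'] [Module A M'] (d' : DerOp θ M') (g : M →ₗ[A] M')
    (hg : ∀ x, g (d.D x) = d'.D (g x)) (y : LocalizedModule S M) :
    (IsLocalizedModule.map S (LocalizedModule.mkLinearMap S M) (LocalizedModule.mkLinearMap S M') g)
        ((d.loc S).D y) =
      (d'.loc S).D ((IsLocalizedModule.map S (LocalizedModule.mkLinearMap S M)
        (LocalizedModule.mkLinearMap S M') g) y) := by
  set gS := IsLocalizedModule.map S (LocalizedModule.mkLinearMap S M)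
    (LocalizedModule.mkLinearMap S M') g with hgS
  have h : (Tw.map (θ := θ) gS).comp (locΨ S d) = (locΨ S d').comp gS := by
    apply IsLocalizedModule.ext S (LocalizedModule.mkLinearMap S M) (isUnit_tw_loc S)
    ext x
    · change gS ((locΨ S d (LocalizedModule.mkLinearMap S M x)).1) =
        (locΨ S d' (gS (LocalizedModule.mkLinearMap S M x))).1
      rw [locΨ_fst, locΨ_fst]
    · have hx : ∀ z : M, gS (LocalizedModule.mkLinearMap S M z) = LocalizedModule.mkLinearMap S M' (g z) :=
        fun z => IsLocalizedModule.map_apply S _ _ g z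
      change gS ((locΨ S d (LocalizedModule.mkLinearMap S M x)).2) =
        (locΨ S d' (gS (LocalizedModule.mkLinearMap S M x))).2
      rw [hx x, locΨ_mk, locΨ_mk]
      change gS (LocalizedModule.mkLinearMap S M (d.D x)) = LocalizedModule.mkLinearMap S M' (d'.D (g x))
      rw [hx, hg]
  have h2 := LinearMap.congr_fun h y
  have h3 : (Tw.map (θ := θ) gS (locΨ S d y)).2 = (locΨ S d' (gS y)).2 := congrArg (fun z => z.2) h2
  rw [locΨ_eq, locΨ_eq] at h3
  exact h3

end Loc

end DerOp

end Groth.Agent.Lib.Helper2.DerLC
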